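import Groth.Agent.H12AlgSp.SepClosed.Rings
import Groth.Agent.H12AlgSp.QC
import Groth.Agent.H12AlgSp.LocP
import Groth.Prelude.Def_AlgSp4

/-!
Finite stages separating a point from a closed subset of a fibre product.
-/

set_option autoImplicit false
set_option backward.isDefEq.respectTransparency false
set_option linter.style.haveILetI false

universe u

open CategoryTheory CategoryTheory.Limits AlgebraicGeometry Opposite
open AlgSp

namespace Groth.Agent.H12AlgSp.SepClosed

variable {S : Scheme.{u}}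

/-- The chart of a base change induced by a chart of the base change to an affine chart of the target. -/
theorem exists_chart_pullback {X Y : Sp S} {f : X ⟶ Y} {Y0 Z U : Over S} {b0 : (yon S).obj Y0 ⟶ Y}
    (a : (yon S).obj U ⟶ pullback f b0) (h : U ⟶ Y0) (hh : (yon S).map h = a ≫ pullback.snd f b0) (k : Z ⟶ Y0)
    {P : Sp S} {q₁ : P ⟶ X} {q₂ : P ⟶ (yon S).obj Z} (sq : IsPullback q₁ q₂ f ((yon S).map k ≫ b0)) :
    ∃ (μ : P ⟶ pullback f b0) (κ : (yon S).obj (pullback h k) ⟶ P),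
      μ ≫ pullback.fst f b0 = q₁ ∧ μ ≫ pullback.snd f b0 = q₂ ≫ (yon S).map k ∧
      IsPullback ((yon S).map (pullback.fst h k)) κ a μ ∧ κ ≫ q₂ = (yon S).map (pullback.snd h k) := by
  let μ : P ⟶ pullback f b0 := pullback.lift q₁ (q₂ ≫ (yon S).map k) (by rw [sq.w, Category.assoc])
  have hμ₁ : μ ≫ pullback.fst f b0 = q₁ := pullback.lift_fst _ _ _
  have hμ₂ : μ ≫ pullback.snd f b0 = q₂ ≫ (yon S).map k := pullback.lift_snd _ _ _
  have t : IsPullback μ q₂ (pullback.snd f b0) ((yon S).map k) :=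
    IsPullback.of_right (by rw [hμ₁]; exact sq) hμ₂ (IsPullback.of_hasPullback f b0)
  have big : IsPullback ((yon S).map (pullback.fst h k)) ((yon S).map (pullback.snd h k))
      (a ≫ pullback.snd f b0) ((yon S).map k) := by
    rw [← hh]
    exact (IsPullback.of_hasPullback h k).map (yon S)
  obtain ⟨κ, hκ₁, hκ₂⟩ := t.exists_lift ((yon S).map (pullback.fst h k) ≫ a) ((yon S).map (pullback.snd h k))
    (by rw [Category.assoc, big.w])
  exact ⟨μ, κ, hμ₁, hμ₂, IsPullback.of_bot (by rw [hκ₂]; exact big) hκ₁.symm t, hκ₂⟩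

theorem appTop_snd_mem_closure {U V Y0 : Scheme.{u}} [IsAffine U] [IsAffine V] [IsAffine Y0] {W : Scheme.{u}}
    {p₁ : W ⟶ U} {p₂ : W ⟶ V} {h : U ⟶ Y0} {k : V ⟶ Y0} (sq : IsPullback p₁ p₂ h k) (r : Γ(W, ⊤)) :
    ∃ σ : Finset Γ(V, ⊤), r ∈ Subring.closure (Set.range p₁.appTop.hom ∪ p₂.appTop.hom '' σ) := by
  classical
  have hr : r ∈ Subring.closure (Set.range p₁.appTop.hom ∪ Set.range p₂.appTop.hom) := by
    rw [closure_eq_top_of_isPushout (isPushout_appTop_of_isPullback sq)]; trivial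
  induction hr using Subring.closure_induction with
  | mem x hx =>
    rcases hx with hx | ⟨a, rfl⟩
    · exact ⟨∅, Subring.subset_closure (Or.inl hx)⟩
    · exact ⟨{a}, Subring.subset_closure (Or.inr ⟨a, Finset.mem_singleton_self a, rfl⟩)⟩
  | zero => exact ⟨∅, zero_mem _⟩
  | one => exact ⟨∅, one_mem _⟩
  | neg x _ hx => exact ⟨hx.choose, neg_mem hx.choose_spec⟩
  | add x y _ _ hx hy =>
    obtain ⟨σ, hσ⟩ := hx; obtain ⟨τ, hτ⟩ := hy
    exact ⟨σ ∪ τ, add_mem (Subring.closure_mono (Set.union_subset_union_right _ (Set.image_mono (by simp))) hσ)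
      (Subring.closure_mono (Set.union_subset_union_right _ (Set.image_mono (by simp))) hτ)⟩
  | mul x y _ _ hx hy =>
    obtain ⟨σ, hσ⟩ := hx; obtain ⟨τ, hτ⟩ := hy
    exact ⟨σ ∪ τ, mul_mem (Subring.closure_mono (Set.union_subset_union_right _ (Set.image_mono (by simp))) hσ)
      (Subring.closure_mono (Set.union_subset_union_right _ (Set.image_mono (by simp))) hτ)⟩

/-- Finitely many functions on an affine scheme over an affine scheme extend to a finitely presented stage. -/
theorem exists_stage {V Y0 : Over S} [IsAffine V.left] [IsAffine Y0.left] (h0 : V ⟶ Y0) (σ : Finset Γ(V.left, ⊤)) :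
    ∃ (Z : Over S) (k : Z ⟶ Y0) (a : V ⟶ Z), IsAffine Z.left ∧ LocallyOfFinitePresentation k.left ∧
      a ≫ k = h0 ∧ ∀ x ∈ σ, x ∈ Set.range a.left.appTop.hom := by
  let P := CommRingCat.of (MvPolynomial σ Γ(Y0.left, ⊤))
  let α : P ⟶ Γ(V.left, ⊤) := CommRingCat.ofHom (MvPolynomial.eval₂Hom h0.left.appTop.hom (fun x : σ => x.1))
  let kl : Spec P ⟶ Y0.left := Spec.map (CommRingCat.ofHom MvPolynomial.C) ≫ Y0.left.isoSpec.inv
  let al : V.left ⟶ Spec P := V.left.isoSpec.hom ≫ Spec.map α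
  have hα : CommRingCat.ofHom MvPolynomial.C ≫ α = h0.left.appTop :=
    CommRingCat.hom_ext (RingHom.ext fun x => MvPolynomial.eval₂Hom_C _ _ x)
  have hak : al ≫ kl = h0.left := by
    simp only [al, kl, Category.assoc]
    rw [← Spec.map_comp_assoc, hα, ← Category.assoc, Iso.comp_inv_eq]
    exact Scheme.isoSpec_hom_naturality h0.left
  let Z : Over S := Over.mk (kl ≫ Y0.hom)
  let k : Z ⟶ Y0 := Over.homMk kl rfl
  let a : V ⟶ Z := Over.homMk al (by change al ≫ kl ≫ Y0.hom = V.hom; rw [reassoc_of% hak, Over.w h0])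
  have hlfp : LocallyOfFinitePresentation (Spec.map (CommRingCat.ofHom (MvPolynomial.C (σ := σ) (R := Γ(Y0.left, ⊤))))) := by
    rw [HasRingHomProperty.Spec_iff (P := @LocallyOfFinitePresentation)]
    exact RingHom.finitePresentation_algebraMap.2 inferInstance
  refine ⟨Z, k, a, inferInstanceAs (IsAffine (Spec P)), ?_, Over.OverMorphism.ext hak, fun x hx => ?_⟩
  · haveI := hlfp
    exact inferInstanceAs (LocallyOfFinitePresentation (_ ≫ _))
  · refine ⟨(Scheme.ΓSpecIso P).inv (MvPolynomial.X ⟨x, hx⟩), ?_⟩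
    have e : (Scheme.ΓSpecIso P).inv ≫ al.appTop = α := Spec.map_injective (by
      rw [← cancel_epi V.left.toSpecΓ]
      rw [Spec.map_comp, ← Scheme.toSpecΓ_naturality_assoc, toSpecΓ_SpecMap_ΓSpecIso_inv, Category.comp_id]
      rfl)
    refine (RingHom.congr_fun (congrArg CommRingCat.Hom.hom e) (MvPolynomial.X ⟨x, hx⟩)).trans ?_
    exact MvPolynomial.eval₂Hom_X' _ _ _

variable {X Y Z : Space S}

/-- A point outside the image of a closed set is separated from it over a finitely presented stage. -/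
theorem exists_separating_stage (f : X ⟶ Y) (g : Z ⟶ Y) (hf : IsQuasiCompactMor f.hom)
    (P : Sp S) (p₁ : P ⟶ X.obj) (p₂ : P ⟶ Z.obj) (hP : IsPullback p₁ p₂ f.hom g.hom)
    (z : Points Z.obj) (T : Set (Points P)) (hT : IsClosed T) (hz : z ∉ Points.map p₂ '' T) :
    ∃ (V : Over S) (_ : IsAffine V.left) (e : (yon S).obj V ⟶ Z.obj) (_ : RepWith @Etale e) (v : ↥V.left)
      (_ : Points.map e (Points.schemeEquiv V v) = z)
      (Z' : Over S) (_ : IsAffine Z'.left) (b : (yon S).obj Z' ⟶ Y.obj) (_ : LocP @LocallyOfFinitePresentation b)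
      (a : V ⟶ Z') (_ : (yon S).map a ≫ b = e ≫ g.hom),
      ∀ (P' : Sp S) (q₁ : P' ⟶ X.obj) (q₂ : P' ⟶ (yon S).obj Z'), IsPullback q₁ q₂ f.hom b →
        ∃ T' : Set (Points P'), IsClosed T' ∧
          Points.schemeEquiv Z' (a.left v) ∉ Points.map q₂ '' T' ∧
          ∀ (PV : Sp S) (r₁ : PV ⟶ X.obj) (r₂ : PV ⟶ (yon S).obj V), IsPullback r₁ r₂ f.hom (e ≫ g.hom) →
            ∀ (κ₁ : PV ⟶ P) (κ₂ : PV ⟶ P'), κ₁ ≫ p₁ = r₁ → κ₁ ≫ p₂ = r₂ ≫ e → κ₂ ≫ q₁ = r₁ →
              κ₂ ≫ q₂ = r₂ ≫ (yon S).map a →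
              ∀ w : Points PV, Points.map κ₁ w ∈ T → Points.map κ₂ w ∈ T' := by
  classical
  obtain ⟨W, pY, hpY, hpYs⟩ := Y.property.atlas
  obtain ⟨UZ, pZ, hpZ, hpZs⟩ := Z.property.atlas
  obtain ⟨u₀, hu₀⟩ := surjective_ofPt_of_repWith le_rfl hpZs z
  obtain ⟨M, m₂, m₁', sqM⟩ := hpY.rep (pZ ≫ g.hom)
  obtain ⟨m₁, rfl⟩ := (yon S).map_surjective m₁'
  haveI : Surjective m₂.left := hpYs.property _ _ _ sqM
  haveI : Etale m₂.left := hpY.property _ _ _ sqM
  obtain ⟨m, hm⟩ := m₂.left.surjective u₀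
  obtain ⟨B0, hB0, hmB0, -⟩ := exists_isAffineOpen_mem_and_subset (X := W.left) (x := m₁.left m) (U := ⊤) trivial
  obtain ⟨BV, hBV, hmBV, hBV'⟩ := exists_isAffineOpen_mem_and_subset (X := M.left) (U := m₁.left ⁻¹ᵁ B0) hmB0
  let Y0 : Over S := Over.mk (B0.ι ≫ W.hom)
  let ι0 : Y0 ⟶ W := Over.homMk B0.ι rfl
  let V : Over S := Over.mk (BV.ι ≫ M.hom)
  let ιV : V ⟶ M := Over.homMk BV.ι rfl
  haveI : IsAffine Y0.left := hB0
  haveI : IsAffine V.left := hBV
  let h0 : V ⟶ Y0 := Over.homMk (m₁.left.resLE B0 BV hBV') (by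
    change m₁.left.resLE B0 BV hBV' ≫ B0.ι ≫ W.hom = BV.ι ≫ M.hom
    rw [Scheme.Hom.resLE_comp_ι_assoc, Over.w m₁])
  have hh0 : h0 ≫ ι0 = ιV ≫ m₁ := Over.OverMorphism.ext (Scheme.Hom.resLE_comp_ι _ _)
  let b0 : (yon S).obj Y0 ⟶ Y.obj := (yon S).map ι0 ≫ pY
  have hb0 : RepWith @Etale b0 := repWith_comp ((repWith_yon_map_iff _ _).2 (inferInstanceAs (Etale B0.ι))) hpY
  let e : (yon S).obj V ⟶ Z.obj := (yon S).map (ιV ≫ m₂) ≫ pZ
  have he : RepWith @Etale e := repWith_comp ((repWith_yon_map_iff _ _).2 (show Etale (BV.ι ≫ m₂.left) from inferInstance)) hpZ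
  have heg : (yon S).map h0 ≫ b0 = e ≫ g.hom := by
    simp only [b0, e, Category.assoc]
    rw [← Functor.map_comp_assoc, hh0, Functor.map_comp, Functor.map_comp, Category.assoc, Category.assoc, sqM.w]
  let v : V.left := ⟨m, hmBV⟩
  have hv : Points.ofPt e v = z := by
    rw [ofPt_map]
    change Points.ofPt pZ (m₂.left m) = z
    rw [hm, hu₀]
  have hP0 : IsAlgSpace (pullback f.hom b0) := isAlgSpace_pullback Y.property.diag X.property (IsAlgSpace.yon_obj Y0) f.hom b0
  haveI : CompactSpace (Points (pullback f.hom b0)) := compactSpace_points_of_isQuasiCompactSp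
    (hf (IsAlgSpace.yon_obj Y0) (isQuasiCompactSp_yon_iff.2 inferInstance) b0 _ _ (IsPullback.of_hasPullback f.hom b0))
  obtain ⟨U, a, hUA, ha, has⟩ := exists_affine_atlas hP0
  haveI : IsAffine U.left := hUA
  obtain ⟨h, hh⟩ := (yon S).map_surjective (a ≫ pullback.snd f.hom b0)
  let UV := pullback h h0
  obtain ⟨κ, hκ₁, hκ₂⟩ := hP.exists_lift
    ((yon S).map (pullback.fst h h0) ≫ a ≫ pullback.fst f.hom b0) ((yon S).map (pullback.snd h h0) ≫ e) (by
      rw [Category.assoc, Category.assoc, Category.assoc, pullback.condition, ← reassoc_of% hh,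
        ← Functor.map_comp_assoc, pullback.condition, Functor.map_comp, Category.assoc, heg])
  have sqUV : IsPullback (pullback.fst h h0).left (pullback.snd h h0).left h.left h0.left :=
    (IsPullback.of_hasPullback h h0).map (Over.forget S)
  haveI : IsAffine UV.left := IsAffine.of_isPullback sqUV
  obtain ⟨s, σ, r, hs, hσ, hr⟩ := exists_separating (pullback.snd h h0).left
    (hT.preimage (Points.continuous_ofPt κ)) v (fun t ht e' => hz ⟨_, ht, by
      rw [Points.map_ofPt, hκ₂, ofPt_map, e', hv]⟩)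
  choose τ hτ using fun a => appTop_snd_mem_closure sqUV (r a)
  let σ' := insert s (σ ∪ σ.biUnion τ)
  obtain ⟨Z', k, al, hZ'A, hk, hak, hrng⟩ := exists_stage h0 σ'
  haveI : IsAffine Z'.left := hZ'A
  let b : (yon S).obj Z' ⟶ Y.obj := (yon S).map k ≫ b0
  have hb : LocP @LocallyOfFinitePresentation b :=
    locP_comp etLocal_lfp (IsAlgSpace.yon_obj Z') (IsAlgSpace.yon_obj Y0) Y.property
      (locP_of_repWith etLocal_lfp ((repWith_yon_map_iff _ _).2 hk))
      (locP_of_repWith etLocal_lfp (repWith_le etLocal_lfp.etale_le hb0))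
  have hab : (yon S).map al ≫ b = e ≫ g.hom := by
    simp only [b, ← Functor.map_comp_assoc, hak, heg]
  refine ⟨V, inferInstance, e, he, v, (Points.ofPt_eq_map_ofScheme e v).symm.trans hv, Z', inferInstance, b, hb, al,
    hab, fun P' q₁ q₂ hP' => ?_⟩
  let UV' := pullback h k
  obtain ⟨μ, κ', hμ₁, hμ₂, sqa, hκ'⟩ := exists_chart_pullback a h hh k hP'
  let ρ : UV ⟶ UV' := pullback.lift (pullback.fst h h0) (pullback.snd h h0 ≫ al) (by
    rw [Category.assoc, hak, pullback.condition])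
  have hρ₁ : ρ.left ≫ (pullback.fst h k).left = (pullback.fst h h0).left :=
    congrArg CommaMorphism.left (pullback.lift_fst _ _ _ : ρ ≫ pullback.fst h k = _)
  have hρ₂ : ρ.left ≫ (pullback.snd h k).left = (pullback.snd h h0).left ≫ al.left :=
    congrArg CommaMorphism.left (pullback.lift_snd _ _ _ : ρ ≫ pullback.snd h k = _)
  have hρr : ∀ a ∈ σ, r a ∈ Set.range ρ.left.appTop.hom := fun a ha => by
    have hle : Subring.closure (Set.range (pullback.fst h h0).left.appTop.hom ∪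
        (pullback.snd h h0).left.appTop.hom '' (τ a)) ≤ ρ.left.appTop.hom.range := by
      rw [Subring.closure_le]
      rintro _ (⟨x, rfl⟩ | ⟨x, hx, rfl⟩)
      · exact ⟨(pullback.fst h k).left.appTop x, by rw [← hρ₁, Scheme.Hom.comp_appTop]; rfl⟩
      · obtain ⟨x, rfl⟩ := hrng x (Finset.mem_insert_of_mem (Finset.mem_union_right _
          (Finset.mem_biUnion.2 ⟨a, ha, hx⟩)))
        refine ⟨(pullback.snd h k).left.appTop x, ?_⟩
        rw [← RingHom.comp_apply, ← CommRingCat.hom_comp, ← Scheme.Hom.comp_appTop, hρ₂, Scheme.Hom.comp_appTop]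
        rfl
    exact hle (hτ a)
  choose! r' hr' using hρr
  choose! x' hx' using fun a (ha : a ∈ σ) => hrng a (Finset.mem_insert_of_mem (Finset.mem_union_left _ ha))
  obtain ⟨s', hs'⟩ := hrng s (Finset.mem_insert_self _ _)
  let j' : Γ(UV'.left, ⊤) := (pullback.snd h k).left.appTop s' -
    ∑ a ∈ σ, r' a * (pullback.snd h k).left.appTop (x' a)
  have hj' : ρ.left.appTop j' = (pullback.snd h h0).left.appTop s -
      ∑ a ∈ σ, r a * (pullback.snd h h0).left.appTop a := by
    have key : ∀ x, ρ.left.appTop ((pullback.snd h k).left.appTop x) =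
        (pullback.snd h h0).left.appTop (al.left.appTop x) := fun x => by
      rw [← RingHom.comp_apply, ← CommRingCat.hom_comp, ← Scheme.Hom.comp_appTop, hρ₂, Scheme.Hom.comp_appTop]
      rfl
    rw [map_sub, map_sum, key, show al.left.appTop s' = s from hs']
    refine congrArg _ (Finset.sum_congr rfl fun a ha => ?_)
    rw [map_mul, key, show al.left.appTop (x' a) = a from hx' a ha, show ρ.left.appTop (r' a) = r a from hr' a ha]
  have hκ'e : RepWith @Etale κ' := repWith_of_isPullback sqa ha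
  have hκ's : RepWith @Surjective κ' := repWith_of_isPullback sqa has
  refine ⟨(Points.ofPt κ' '' (UV'.left.basicOpen j' : Set UV'.left))ᶜ,
    ((isOpenMap_ofPt_of_repWith etale_le_universallyOpen hκ'e) _ (UV'.left.basicOpen j').isOpen).isClosed_compl,
    ?_, fun PV r₁ r₂ hPV κ₁ κ₂ e₁ e₂ e₃ e₄ w hw => ?_⟩
  · rintro ⟨w', hw', hwa⟩
    obtain ⟨u', rfl⟩ := surjective_ofPt_of_repWith le_rfl hκ's w'
    refine hw' ⟨u', ?_, rfl⟩
    have hsnd : (pullback.snd h k).left u' = al.left v := by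
      apply (Points.schemeEquiv Z').injective
      refine Eq.trans ?_ hwa
      rw [Points.map_ofPt, hκ', ← Category.comp_id ((yon S).map _), ofPt_map, Points.ofPt_eq_map_ofScheme,
        Points.map_id]
      rfl
    refine mem_basicOpen_sub_sum (show u' ∈ (⊤ : UV'.left.Opens) from trivial) σ _ _ _ ?_ fun a ha => ?_
    · rw [← Scheme.preimage_basicOpen_top]
      change (pullback.snd h k).left u' ∈ Z'.left.basicOpen s'
      rw [hsnd]
      change v ∈ al.left ⁻¹ᵁ Z'.left.basicOpen s'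
      rw [Scheme.preimage_basicOpen_top, show al.left.appTop s' = s from hs']
      exact hs
    · rw [← Scheme.preimage_basicOpen_top]
      change ¬ (pullback.snd h k).left u' ∈ Z'.left.basicOpen (x' a)
      rw [hsnd]
      change ¬ v ∈ al.left ⁻¹ᵁ Z'.left.basicOpen (x' a)
      rw [Scheme.preimage_basicOpen_top, show al.left.appTop (x' a) = a from hx' a ha]
      exact hσ a ha
  · rintro ⟨u', hu', hw'⟩
    obtain ⟨μV, κV, hμV₁, hμV₂, sqV, hκV⟩ := exists_chart_pullback a h hh h0 (q₁ := r₁) (q₂ := r₂)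
      (by rw [heg]; exact hPV)
    have hμ : κ₂ ≫ μ = μV := by
      apply pullback.hom_ext
      · rw [Category.assoc, hμ₁, e₃, hμV₁]
      · rw [Category.assoc, hμ₂, reassoc_of% e₄, ← Functor.map_comp, hak, hμV₂]
    have hκρ : κV ≫ κ₂ = (yon S).map ρ ≫ κ' := by
      apply hP'.hom_ext
      · rw [Category.assoc, e₃, ← hμV₁, ← reassoc_of% sqV.w, Category.assoc, ← hμ₁, ← reassoc_of% sqa.w,
          ← Functor.map_comp_assoc, pullback.lift_fst]
      · rw [Category.assoc, e₄, reassoc_of% hκV, Category.assoc, hκ', ← Functor.map_comp, ← Functor.map_comp,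
          pullback.lift_snd]
    have sqρ : IsPullback ((yon S).map ρ) κV κ' κ₂ := IsPullback.of_right
      (by rw [hμ, ← Functor.map_comp, pullback.lift_fst]; exact sqV) hκρ.symm sqa
    obtain ⟨m', hm'₁, hm'₂⟩ := exists_point_of_isPullback sqρ (Points.ofScheme UV' u') w
      (by rw [← hw', Points.ofPt_eq_map_ofScheme])
    obtain ⟨t, rfl⟩ := (Points.schemeEquiv UV).surjective m'
    have ht : ρ.left t = u' := (Points.schemeEquiv UV').injective
      ((Points.map_yon_map_apply ρ t).symm.trans hm'₁)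
    have hκV₁ : κV ≫ κ₁ = κ := by
      apply hP.hom_ext
      · rw [Category.assoc, e₁, hκ₁, ← hμV₁, ← reassoc_of% sqV.w]
      · rw [Category.assoc, e₂, reassoc_of% hκV, hκ₂]
    refine hr t ?_ ?_
    · change Points.ofPt κ t ∈ T
      rw [Points.ofPt_eq_map_ofScheme, ← hκV₁, Points.map_comp]
      exact hm'₂ ▸ hw
    · rw [← hj', ← Scheme.preimage_basicOpen_top]
      change ρ.left t ∈ UV'.left.basicOpen j'
      rw [ht]
      exact hu'

end Groth.Agent.H12AlgSp.SepClosed
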