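import Mathlib.AlgebraicGeometry.Morphisms.Affine
import Mathlib.AlgebraicGeometry.Morphisms.FinitePresentation
import Mathlib.Algebra.Category.Ring.Constructions

/-!
Separating a point of an affine scheme from a closed subset of an affine fibre product at a finite stage.
-/

set_option autoImplicit false
set_option backward.isDefEq.respectTransparency false

universe u

open CategoryTheory CategoryTheory.Limits AlgebraicGeometry Opposite

namespace Groth.Agent.H12AlgSp.SepClosed

/-- A pushout of commutative rings is generated by the images of the two rings. -/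
theorem closure_eq_top_of_isPushout {A B C D : CommRingCat.{u}} {f : A ⟶ B} {g : A ⟶ C} {i : B ⟶ D} {j : C ⟶ D}
    (h : IsPushout f g i j) : Subring.closure (Set.range i.hom ∪ Set.range j.hom) = ⊤ := by
  let G := Subring.closure (Set.range i.hom ∪ Set.range j.hom)
  let i' : B ⟶ CommRingCat.of G := CommRingCat.ofHom (i.hom.codRestrict G fun x => Subring.subset_closure (Or.inl ⟨x, rfl⟩))
  let j' : C ⟶ CommRingCat.of G := CommRingCat.ofHom (j.hom.codRestrict G fun x => Subring.subset_closure (Or.inr ⟨x, rfl⟩))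
  obtain ⟨l, hl₁, hl₂⟩ := h.exists_desc i' j' (by
    refine CommRingCat.hom_ext (RingHom.ext fun x => Subtype.ext ?_)
    exact RingHom.congr_fun (congrArg CommRingCat.Hom.hom h.w) x)
  have : l ≫ CommRingCat.ofHom G.subtype = 𝟙 D := by
    apply h.hom_ext
    · rw [Category.comp_id, reassoc_of% hl₁]; rfl
    · rw [Category.comp_id, reassoc_of% hl₂]; rfl
  rw [eq_top_iff]
  intro x _
  rw [← show (l ≫ CommRingCat.ofHom G.subtype).hom x = x by rw [this]; rfl]
  exact (l.hom x).2

variable {X : Scheme.{u}} [IsAffine X]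

/-- Membership in basic opens separates closed sets. -/
theorem mem_of_forall_basicOpen {C : Set X} (hC : IsClosed C) {x : X}
    (h : ∀ f : Γ(X, ⊤), (∀ t ∈ C, t ∉ X.basicOpen f) → x ∉ X.basicOpen f) : x ∈ C := by
  by_contra hx
  obtain ⟨f, hf, hxf⟩ := (isAffineOpen_top X).exists_basicOpen_le
    (V := ⟨Cᶜ, hC.isOpen_compl⟩) ⟨x, hx⟩ trivial
  exact h f (fun t ht htf => hf htf ht) hxf

theorem mem_basicOpen_sub_sum {X : Scheme.{u}} {U : X.Opens} {x : X} (hxU : x ∈ U) {ι : Type*} (σ : Finset ι)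
    (s : Γ(X, U)) (a r : ι → Γ(X, U)) (hs : x ∈ X.basicOpen s) (ha : ∀ k ∈ σ, x ∉ X.basicOpen (a k)) :
    x ∈ X.basicOpen (s - ∑ k ∈ σ, r k * a k) := by
  rw [X.mem_basicOpen _ x hxU] at hs ⊢
  rw [map_sub, map_sum]
  set g := (X.presheaf.germ U x hxU).hom
  have hm : ∑ k ∈ σ, g (r k * a k) ∈ IsLocalRing.maximalIdeal (X.presheaf.stalk x) := by
    refine Ideal.sum_mem _ fun k hk => ?_
    rw [map_mul]
    refine Ideal.mul_mem_left _ _ ?_
    rw [IsLocalRing.mem_maximalIdeal, mem_nonunits_iff]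
    exact fun hu => ha k hk ((X.mem_basicOpen _ x hxU).2 hu)
  by_contra hn
  have := Ideal.add_mem _ ((IsLocalRing.mem_maximalIdeal _).2 hn) hm
  rw [sub_add_cancel] at this
  exact (IsLocalRing.mem_maximalIdeal _).1 this hs

/-- A closed subset missing the fibre over a point is separated from it by an explicit function. -/
theorem exists_separating {V : Scheme.{u}} [IsAffine V] (π : X ⟶ V) {C : Set X} (hC : IsClosed C) (v : V)
    (hv : ∀ x ∈ C, π x ≠ v) :
    ∃ (s : Γ(V, ⊤)) (σ : Finset Γ(V, ⊤)) (r : Γ(V, ⊤) → Γ(X, ⊤)), v ∈ V.basicOpen s ∧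
      (∀ a ∈ σ, v ∉ V.basicOpen a) ∧
      ∀ x ∈ C, x ∉ X.basicOpen (π.appTop s - ∑ a ∈ σ, r a * π.appTop a) := by
  classical
  let J : Ideal Γ(X, ⊤) :=
    { carrier := {f | ∀ t ∈ C, t ∉ X.basicOpen f}
      zero_mem' := fun t _ h => by rw [Scheme.basicOpen_zero] at h; exact h
      add_mem' := fun {f g} hf hg t ht h => by
        have := X.mem_basicOpen (U := ⊤) (f + g) t trivial
        rw [this, map_add] at h
        rcases IsLocalRing.isUnit_or_isUnit_of_isUnit_add h with h | h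
        · exact hf t ht ((X.mem_basicOpen f t trivial).2 h)
        · exact hg t ht ((X.mem_basicOpen g t trivial).2 h)
      smul_mem' := fun c f hf t ht h => by
        rw [smul_eq_mul, Scheme.basicOpen_mul] at h
        exact hf t ht h.2 }
  let I : Ideal Γ(X, ⊤) := Ideal.span (π.appTop.hom '' {a | v ∉ V.basicOpen a})
  let M : Submonoid Γ(X, ⊤) :=
    Submonoid.map π.appTop.hom
      { carrier := {a | v ∈ V.basicOpen a}
        one_mem' := show v ∈ V.basicOpen (1 : Γ(V, ⊤)) by rw [Scheme.basicOpen_of_isUnit _ isUnit_one]; trivial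
        mul_mem' := fun {a b} ha hb => show v ∈ V.basicOpen (a * b) by rw [Scheme.basicOpen_mul]; exact ⟨ha, hb⟩ }
  have hmeet : ¬ Disjoint ((J ⊔ I : Ideal Γ(X, ⊤)) : Set Γ(X, ⊤)) M := by
    intro hd
    obtain ⟨q, hq, hle, hqd⟩ := Ideal.exists_le_prime_disjoint _ M hd
    let x : X := (isAffineOpen_top X).fromSpec ⟨q, hq⟩
    have hx : ∀ f : Γ(X, ⊤), x ∈ X.basicOpen f ↔ f ∉ q := fun f => by
      change (⟨q, hq⟩ : PrimeSpectrum Γ(X, ⊤)) ∈ (isAffineOpen_top X).fromSpec ⁻¹ᵁ X.basicOpen f ↔ _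
      rw [(isAffineOpen_top X).fromSpec_preimage_basicOpen]
      rfl
    have hxC : x ∈ C := mem_of_forall_basicOpen hC fun f hf h => (hx f).1 h (hle (Ideal.mem_sup_left hf))
    refine hv x hxC ?_
    have key : ∀ a : Γ(V, ⊤), π x ∈ V.basicOpen a ↔ v ∈ V.basicOpen a := fun a => by
      change x ∈ π ⁻¹ᵁ V.basicOpen a ↔ _
      rw [Scheme.preimage_basicOpen_top, hx]
      refine ⟨fun h => ?_, fun h hq' => Set.disjoint_left.1 hqd hq' ⟨a, h, rfl⟩⟩
      by_contra hva
      exact h (hle (Ideal.mem_sup_right (Ideal.subset_span ⟨a, hva, rfl⟩)))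
    refine Inseparable.eq ?_
    rw [(V.isBasis_affineOpens).inseparable_iff]
    rintro _ ⟨U, hU, rfl⟩
    constructor <;> intro h
    · obtain ⟨f, hf, hxf⟩ := (isAffineOpen_top V).exists_basicOpen_le (V := U) ⟨_, h⟩ trivial
      exact hf ((key f).1 hxf)
    · obtain ⟨f, hf, hxf⟩ := (isAffineOpen_top V).exists_basicOpen_le (V := U) ⟨_, h⟩ trivial
      exact hf ((key f).2 hxf)
  obtain ⟨_, hm, s, hs, rfl⟩ := Set.not_disjoint_iff.1 hmeet
  obtain ⟨j, hj, i, hi, e⟩ := Submodule.mem_sup.1 hm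
  obtain ⟨c, hc, rfl⟩ := (Finsupp.mem_span_image_iff_linearCombination _).1 hi
  refine ⟨s, c.support, c, hs, fun a ha => hc ha, fun x hx => ?_⟩
  have : π.appTop s - ∑ a ∈ c.support, c a * π.appTop a = j := by
    rw [Finsupp.linearCombination_apply, Finsupp.sum] at e
    exact sub_eq_iff_eq_add.2 e.symm
  rw [this]
  exact hj x hx

end Groth.Agent.H12AlgSp.SepClosed
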